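import Mathlib.AlgebraicGeometry.FunctionField
import Mathlib.AlgebraicGeometry.Stalk
import Mathlib.AlgebraicGeometry.Morphisms.Immersion
import Mathlib.AlgebraicGeometry.Morphisms.Separated
import Mathlib.RingTheory.LocalRing.LocalSubring
import Mathlib.Topology.NoetherianSpace

set_option autoImplicit false
universe u

open CategoryTheory Limits AlgebraicGeometry IsLocalRing

namespace Groth.Agent.SchLoc58

lemma range_le_range {A B K : Type*} [CommRing A] [IsLocalRing A] [CommRing B] [IsLocalRing B]
    [CommRing K] [Nontrivial K] (f : A →+* K) (g : B →+* K) (φ : A →+* B) [IsLocalHom φ]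
    (h : g.comp φ = f) : LocalSubring.range f ≤ LocalSubring.range g := by
  have hle : f.range ≤ g.range := by
    rintro _ ⟨a, rfl⟩; exact ⟨φ a, congr($h a)⟩
  refine ⟨hle, ⟨?_⟩⟩
  rintro ⟨_, a, rfl⟩ ha
  have hu : IsUnit (φ a) := by
    have : IsLocalHom g.rangeRestrict := by
      have : Nontrivial g.range := inferInstance
      exact IsLocalHom.of_surjective _ g.rangeRestrict_surjective
    refine isUnit_of_map_unit g.rangeRestrict _ ?_
    refine Eq.mp ?_ ha
    congr 1
    exact Subtype.ext congr($h a).symm
  exact (isUnit_of_map_unit φ a hu).map f.rangeRestrict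

lemma exists_factor_of_range_le {A K : Type*} [CommRing A] [IsLocalRing A] [CommRing K]
    [Nontrivial K] (f : A →+* K) (hf : Function.Injective f) (Q : LocalSubring K)
    (h : LocalSubring.range f ≤ Q) :
    ∃ φ : A →+* Q.toSubring, IsLocalHom φ ∧ Q.toSubring.subtype.comp φ = f := by
  obtain ⟨hle, hloc⟩ := h
  refine ⟨(Subring.inclusion hle).comp f.rangeRestrict, ?_, rfl⟩
  have : IsLocalHom f.rangeRestrict := by
    refine ⟨fun a ha => ?_⟩
    obtain ⟨⟨_, b, rfl⟩, hb⟩ := isUnit_iff_exists_inv.mp ha
    exact isUnit_iff_exists_inv.mpr ⟨b, hf (by simpa using congrArg Subtype.val hb)⟩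
  exact @RingHom.isLocalHom_comp _ _ _ _ _ _ _ _ hloc this

variable {X Y : Scheme.{u}}

/-- Two morphisms from the spectrum of a subring of a field into a separated scheme agree once they
agree at the generic point. -/
lemma hom_ext_of_injective [Y.IsSeparated] {B K : CommRingCat.{u}} [IsDomain B] (g : B ⟶ K)
    (hg : Function.Injective g) {a b : Spec B ⟶ Y} (h : Spec.map g ≫ a = Spec.map g ≫ b) :
    a = b := by
  have : IsDominant (Spec.map g) := by
    refine ⟨?_⟩
    exact (PrimeSpectrum.denseRange_comap_iff_ker_le_nilRadical g.hom).mpr (by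
      rw [(RingHom.injective_iff_ker_eq_bot _).mp hg]; exact bot_le)
  exact ext_of_isDominant (Spec.map g) h

/-- The inclusion of a local ring into the function field. -/
noncomputable def toFF [IrreducibleSpace X] (x : X) : X.presheaf.stalk x ⟶ X.functionField :=
  X.presheaf.stalkSpecializes ((genericPoint_spec X).specializes trivial)

lemma algebraMap_eq_toFF [IrreducibleSpace X] (x : X) :
    algebraMap (X.presheaf.stalk x) X.functionField = (toFF x).hom := rfl

lemma toFF_injective [IsIntegral X] (x : X) : Function.Injective (toFF x) :=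
  IsFractionRing.injective (X.presheaf.stalk x) X.functionField

lemma specMap_fromSpecStalk_closedPoint {B : CommRingCat.{u}} [IsLocalRing B] {y : Y}
    (φ : Y.presheaf.stalk y ⟶ B) [IsLocalHom φ.hom] :
    (Spec.map φ ≫ Y.fromSpecStalk y) (closedPoint B) = y := by
  have h : Spec.map φ (closedPoint B) = closedPoint (Y.presheaf.stalk y) :=
    IsLocalRing.comap_closedPoint φ.hom
  exact (congrArg (Y.fromSpecStalk y) h).trans Scheme.fromSpecStalk_closedPoint

lemma stalkSpecializes_stalkMap_eq_of_eq_id (q : X ⟶ X) (hq : q = 𝟙 X) (a b : X)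
    (h : q a ⤳ b) (h' : a ⤳ b) :
    X.presheaf.stalkSpecializes h ≫ q.stalkMap a = X.presheaf.stalkSpecializes h' := by
  subst hq; simp

lemma specMap_algebraMap_fromSpecStalk [IsIntegral X] (x : X) :
    Spec.map (toFF x) ≫
      X.fromSpecStalk x = X.fromSpecStalk (genericPoint X) :=
  Scheme.SpecMap_stalkSpecializes_fromSpecStalk ((genericPoint_spec X).specializes trivial)

/-- In an integral separated scheme, two points whose local rings map compatibly to a local
subring-like domain `B` by local homomorphisms coincide. -/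
lemma eq_of_local_homs [IsIntegral X] [X.IsSeparated] {B : CommRingCat.{u}} [IsLocalRing B]
    [IsDomain B] (x y : X) (g : B ⟶ X.functionField) (hg : Function.Injective g)
    (φ : X.presheaf.stalk x ⟶ B) [IsLocalHom φ.hom] (ψ : X.presheaf.stalk y ⟶ B)
    [IsLocalHom ψ.hom]
    (hφ : φ ≫ g = toFF x)
    (hψ : ψ ≫ g = toFF y) :
    x = y := by
  have h : Spec.map φ ≫ X.fromSpecStalk x = Spec.map ψ ≫ X.fromSpecStalk y := by
    apply hom_ext_of_injective g hg
    rw [← Spec.map_comp_assoc, ← Spec.map_comp_assoc, hφ, hψ, specMap_algebraMap_fromSpecStalk,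
      specMap_algebraMap_fromSpecStalk]
  exact (specMap_fromSpecStalk_closedPoint φ).symm.trans
    ((congr($h (closedPoint B))).trans (specMap_fromSpecStalk_closedPoint ψ))

lemma eq_of_le_localSubring [IsIntegral X] [X.IsSeparated] {x y : X}
    {Q : LocalSubring X.functionField}
    (hx : LocalSubring.range (algebraMap (X.presheaf.stalk x) X.functionField) ≤ Q)
    (hy : LocalSubring.range (algebraMap (X.presheaf.stalk y) X.functionField) ≤ Q) : x = y := by
  obtain ⟨φ, hφl, hφ⟩ := exists_factor_of_range_le _ (IsFractionRing.injective _ _) Q hx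
  obtain ⟨ψ, hψl, hψ⟩ := exists_factor_of_range_le _ (IsFractionRing.injective _ _) Q hy
  exact eq_of_local_homs (B := .of Q.toSubring) x y (CommRingCat.ofHom Q.toSubring.subtype)
    Subtype.val_injective (CommRingCat.ofHom φ) (CommRingCat.ofHom ψ)
    (CommRingCat.hom_ext hφ) (CommRingCat.hom_ext hψ)

lemma isSeparated_of_not_allied [IsIntegral X]
    (H : ∀ (x y : X) (Q : LocalSubring X.functionField),
      LocalSubring.range (algebraMap (X.presheaf.stalk x) X.functionField) ≤ Q →
      LocalSubring.range (algebraMap (X.presheaf.stalk y) X.functionField) ≤ Q → x = y) :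
    X.IsSeparated := by
  rw [Scheme.isSeparated_iff, AlgebraicGeometry.isSeparated_iff]
  let t := terminal.from X
  let δ := pullback.diagonal t
  have hclosed : IsClosed (Set.range δ) := by
    rw [← closure_subset_iff_isClosed]
    intro z hz
    have hsp : δ (genericPoint X) ⤳ z := by
      rw [specializes_iff_mem_closure]
      refine closure_minimal ?_ isClosed_closure hz
      rintro _ ⟨x, rfl⟩
      exact (((genericPoint_spec X).specializes trivial).map δ.continuous).mem_closure
    let ψ : (pullback t t).presheaf.stalk z ⟶ X.functionField :=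
      (pullback t t).presheaf.stalkSpecializes hsp ≫ δ.stalkMap (genericPoint X)
    have key : ∀ (p : pullback t t ⟶ X), δ ≫ p = 𝟙 X →
        LocalSubring.range (algebraMap (X.presheaf.stalk (p z)) X.functionField) ≤
          LocalSubring.range ψ.hom := by
      intro p hp
      refine range_le_range _ _ (p.stalkMap z).hom ?_
      have e : p.stalkMap z ≫ ψ = toFF (p z) := by
        simp only [ψ]
        rw [← Scheme.Hom.stalkSpecializes_stalkMap_assoc, ← Scheme.Hom.stalkMap_comp]
        exact stalkSpecializes_stalkMap_eq_of_eq_id _ hp _ _ _ _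
      exact congr(($e).hom)
    have hxy : pullback.fst t t z = pullback.snd t t z :=
      H _ _ _ (key _ (pullback.diagonal_fst t)) (key _ (pullback.diagonal_snd t))
    obtain ⟨_, ⟨V, hV, rfl⟩, hxV, -⟩ :=
      X.isBasis_affineOpens.exists_subset_of_mem_open (Set.mem_univ (pullback.fst t t z)) isOpen_univ
    let V' : X.Opens := V
    let j := pullback.map (V'.ι ≫ t) (V'.ι ≫ t) t t V'.ι V'.ι (𝟙 _) (by simp) (by simp)
    have hz' : z ∈ Set.range j := by
      rw [Scheme.Pullback.range_map]
      refine ⟨by simpa using hxV, ?_⟩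
      simpa [hxy] using hxV
    have : IsAffine V' := hV
    have : IsSeparated (V'.ι ≫ t) := by
      rw [Subsingleton.elim (V'.ι ≫ t) (terminal.from (V' : Scheme))]
      infer_instance
    have hδ : pullback.diagonal (V'.ι ≫ t) ≫ j = V'.ι ≫ δ := by
      apply pullback.hom_ext
      · rw [Category.assoc, Category.assoc, pullback.diagonal_fst]
        erw [pullback.lift_fst, pullback.diagonal_fst_assoc]
        exact (Category.comp_id _).symm
      · rw [Category.assoc, Category.assoc, pullback.diagonal_snd]
        erw [pullback.lift_snd, pullback.diagonal_snd_assoc]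
        exact (Category.comp_id _).symm
    obtain ⟨z', rfl⟩ := hz'
    have h2 : z' ∈ closure (j ⁻¹' (Set.range δ)) :=
      j.isOpenEmbedding.isOpenMap.preimage_closure_subset_closure_preimage hz
    have h3 : j ⁻¹' Set.range δ ⊆ Set.range (pullback.diagonal (V'.ι ≫ t)) := by
      rintro w ⟨x, hx⟩
      have hxV : x ∈ V' := by
        have h4 : pullback.fst t t (δ x) = x := by
          rw [← Scheme.Hom.comp_apply, pullback.diagonal_fst]; rfl
        rw [hx, ← Scheme.Hom.comp_apply, pullback.lift_fst] at h4
        exact h4 ▸ (pullback.fst (V'.ι ≫ t) (V'.ι ≫ t) w).2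
      refine ⟨⟨x, hxV⟩, j.isOpenEmbedding.injective ?_⟩
      exact (congr($hδ (⟨x, hxV⟩ : V'.toScheme))).trans hx
    obtain ⟨v, hv⟩ := closure_minimal h3
      (pullback.diagonal (V'.ι ≫ t)).isClosedEmbedding.isClosed_range h2
    refine ⟨v.1, ?_⟩
    rw [← hv]
    exact (congr($hδ v)).symm
  exact IsClosedImmersion.of_isPreimmersion _ hclosed

lemma specializes_iff_range_le [IsIntegral X] [X.IsSeparated] (x y : X) :
    y ⤳ x ↔ (algebraMap (X.presheaf.stalk x) X.functionField).range ≤
      (algebraMap (X.presheaf.stalk y) X.functionField).range := by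
  constructor
  · rintro h _ ⟨a, rfl⟩
    refine ⟨X.presheaf.stalkSpecializes h a, ?_⟩
    rw [algebraMap_eq_toFF, algebraMap_eq_toFF]
    exact TopCat.Presheaf.stalkSpecializes_comp_apply X.presheaf _ _ a
  · intro h
    let ey := RingEquiv.ofBijective (algebraMap (X.presheaf.stalk y) X.functionField).rangeRestrict
      ⟨fun a b hab => toFF_injective _ (congrArg Subtype.val hab), RingHom.rangeRestrict_surjective _⟩
    let φ : X.presheaf.stalk x ⟶ X.presheaf.stalk y := CommRingCat.ofHom
      (ey.symm.toRingHom.comp ((Subring.inclusion h).comp (RingHom.rangeRestrict _)))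
    have e : Spec.map φ ≫ X.fromSpecStalk x = X.fromSpecStalk y := by
      apply hom_ext_of_injective (toFF y) (toFF_injective y)
      rw [specMap_algebraMap_fromSpecStalk, ← Spec.map_comp_assoc,
        ← specMap_algebraMap_fromSpecStalk x]
      congr 2
      refine CommRingCat.hom_ext (RingHom.ext fun a => ?_)
      exact congrArg Subtype.val (ey.apply_symm_apply _)
    have hm : y ∈ Set.range (X.fromSpecStalk x) := by
      refine ⟨Spec.map φ (closedPoint (X.presheaf.stalk y)), ?_⟩
      exact (congr($e (closedPoint (X.presheaf.stalk y)))).trans Scheme.fromSpecStalk_closedPoint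
    rwa [Scheme.range_fromSpecStalk] at hm

lemma range_injective [IsIntegral X] [X.IsSeparated] :
    Function.Injective (fun x : X ↦ (algebraMap (X.presheaf.stalk x) X.functionField).range) :=
  fun x y h => ((specializes_iff_range_le y x).mpr h.ge).antisymm
    ((specializes_iff_range_le x y).mpr h.le) |>.eq

lemma isOpen_domain [IsIntegral X] (f : X.functionField) :
    IsOpen {x : X | f ∈ (algebraMap (X.presheaf.stalk x) X.functionField).range} := by
  rw [isOpen_iff_forall_mem_open]
  rintro x ⟨a, rfl⟩
  obtain ⟨U, hU, s, rfl⟩ := X.presheaf.exists_germ_eq a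
  refine ⟨U, fun y hy => ?_, U.2, hU⟩
  have : Nonempty U := ⟨⟨y, hy⟩⟩
  exact ⟨X.presheaf.germ U y hy s, by rw [Scheme.algebraMap_germ_eq_germToFunctionField,
    Scheme.algebraMap_germ_eq_germToFunctionField]⟩

lemma generateFrom_domains [IsIntegral X] [X.IsSeparated] [TopologicalSpace.NoetherianSpace X] :
    TopologicalSpace.generateFrom
        {S : Set X | ∃ f : X.functionField,
          S = {x : X | f ∈ (algebraMap (X.presheaf.stalk x) X.functionField).range}} =
      (inferInstance : TopologicalSpace X) := by
  apply le_antisymm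
  · intro U hU
    rw [@isOpen_iff_forall_mem_open X (TopologicalSpace.generateFrom _) U]
    intro x hx
    obtain ⟨S, hSfin, hScl, hSirr, hSeq⟩ :=
      TopologicalSpace.NoetherianSpace.exists_finite_set_isClosed_irreducible hU.isClosed_compl
    have key : ∀ Z ∈ S, ∃ f : X.functionField,
        f ∈ (algebraMap (X.presheaf.stalk x) X.functionField).range ∧
        ∀ w ∈ Z, f ∉ (algebraMap (X.presheaf.stalk w) X.functionField).range := by
      intro Z hZ
      have hg : IsGenericPoint (hSirr Z hZ).genericPoint Z :=
        (hSirr Z hZ).isGenericPoint_genericPoint (hScl Z hZ)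
      have hxZ : ¬ (hSirr Z hZ).genericPoint ⤳ x := fun hh => by
        have h1 : x ∈ Z := hg.specializes_iff_mem.mp hh
        exact (hSeq.ge (Set.mem_sUnion.mpr ⟨Z, hZ, h1⟩)) hx
      obtain ⟨f, hf, hf'⟩ := SetLike.not_le_iff_exists.mp
        (mt (specializes_iff_range_le x _).mpr hxZ)
      exact ⟨f, hf, fun w hw hfw => hf' ((specializes_iff_range_le w _).mp (hg.specializes hw) hfw)⟩
    choose! f hfx hfw using key
    refine ⟨⋂ Z ∈ S, {y : X | f Z ∈ (algebraMap (X.presheaf.stalk y) X.functionField).range},
      fun y hy => ?_, ?_, Set.mem_iInter₂.mpr hfx⟩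
    · by_contra hyU
      obtain ⟨Z, hZ, hyZ⟩ := hSeq.le hyU
      exact hfw Z hZ y hyZ (Set.mem_iInter₂.mp hy Z hZ)
    · exact @Set.Finite.isOpen_biInter _ _ (TopologicalSpace.generateFrom _) _ _ hSfin
        fun Z _ => TopologicalSpace.GenerateOpen.basic _ ⟨f Z, rfl⟩
  · refine le_generateFrom ?_
    rintro _ ⟨f, rfl⟩
    exact isOpen_domain f

lemma dominated_iff [IsIntegral X] [IsIntegral Y] [Y.IsSeparated] (f : X ⟶ Y)
    (e : f (genericPoint X) = genericPoint Y) (x : X) (y : Y) :
    LocalSubring.range ((Y.presheaf.stalkSpecializes (specializes_of_eq e) ≫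
        f.stalkMap (genericPoint X)).hom.comp (algebraMap (Y.presheaf.stalk y) Y.functionField)) ≤
      LocalSubring.range (algebraMap (X.presheaf.stalk x) X.functionField) ↔ y = f x := by
  have key : ∀ y : Y, y = f x → ∀ (hy : f x ⤳ y),
      (Y.presheaf.stalkSpecializes hy ≫ f.stalkMap x) ≫
        toFF x =
      toFF y ≫
        Y.presheaf.stalkSpecializes (specializes_of_eq e) ≫ f.stalkMap (genericPoint X) := by
    intro y _ hy
    have h0 : genericPoint X ⤳ x := (genericPoint_spec X).specializes trivial
    simp only [toFF]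
    rw [Category.assoc, ← Scheme.Hom.stalkSpecializes_stalkMap f _ _ h0,
      TopCat.Presheaf.stalkSpecializes_comp_assoc, TopCat.Presheaf.stalkSpecializes_comp_assoc]
  constructor
  · intro h
    obtain ⟨hle, hloc⟩ := h
    let ψ := (Y.presheaf.stalkSpecializes (specializes_of_eq e) ≫ f.stalkMap (genericPoint X)).hom
    have hinj : Function.Injective
        (ψ.comp (algebraMap (Y.presheaf.stalk y) Y.functionField)) :=
      ψ.injective.comp (IsFractionRing.injective _ _)
    obtain ⟨φ, hφl, hφ⟩ := exists_factor_of_range_le _ hinj _ ⟨hle, hloc⟩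
    let ex := RingEquiv.ofBijective (algebraMap (X.presheaf.stalk x) X.functionField).rangeRestrict
      ⟨fun a b hab => toFF_injective _ (congrArg Subtype.val hab), RingHom.rangeRestrict_surjective _⟩
    let φ' : Y.presheaf.stalk y ⟶ X.presheaf.stalk x :=
      CommRingCat.ofHom (ex.symm.toRingHom.comp φ)
    have hloc' : IsLocalHom φ'.hom := by
      have : IsLocalHom ex.symm.toRingHom := ⟨fun a ha => (MulEquiv.isUnit_map ex.symm).mp ha⟩
      exact @RingHom.isLocalHom_comp _ _ _ _ _ _ _ _ this hφl
    have h1 : φ' ≫ toFF x =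
        toFF y ≫
        Y.presheaf.stalkSpecializes (specializes_of_eq e) ≫ f.stalkMap (genericPoint X) := by
      refine CommRingCat.hom_ext (RingHom.ext fun a => ?_)
      exact (congrArg Subtype.val (ex.apply_symm_apply (φ a))).trans congr($hφ a)
    have h2 : Spec.map φ' ≫ Y.fromSpecStalk y = Spec.map (f.stalkMap x) ≫ Y.fromSpecStalk (f x) := by
      apply hom_ext_of_injective (toFF x) (toFF_injective x)
      have h3 := key (f x) rfl specializes_rfl
      rw [TopCat.Presheaf.stalkSpecializes_refl, Category.id_comp] at h3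
      rw [← Spec.map_comp_assoc, ← Spec.map_comp_assoc, h1, h3]
      simp only [Spec.map_comp, Category.assoc, specMap_algebraMap_fromSpecStalk]
    exact (specMap_fromSpecStalk_closedPoint φ').symm.trans
      ((congr($h2 (closedPoint (X.presheaf.stalk x)))).trans
        (specMap_fromSpecStalk_closedPoint (f.stalkMap x)))
  · rintro rfl
    refine range_le_range _ _ (f.stalkMap x).hom ?_
    have h3 := key (f x) rfl specializes_rfl
    rw [TopCat.Presheaf.stalkSpecializes_refl, Category.id_comp] at h3
    exact congr(($h3).hom)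

end Groth.Agent.SchLoc58
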