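import Mathlib.AlgebraicGeometry.Morphisms.Immersion
import Mathlib.AlgebraicGeometry.Morphisms.Separated
import Groth.Prelude.Def_SchLoc

set_option autoImplicit false
universe u

open CategoryTheory Limits AlgebraicGeometry

namespace Groth.Agent.SchLoc58

variable {X Y Z : Scheme.{u}}

lemma isLocalImmersionAt_iff (f : X ⟶ Y) (x : X) :
    SchLoc.IsLocalImmersionAt f x ↔ ∃ U : X.Opens, x ∈ U ∧ IsImmersion (U.ι ≫ f) := by
  constructor
  · rintro ⟨U, V, h, hx, hc⟩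
    refine ⟨U, hx, ?_⟩
    rw [← Scheme.Hom.resLE_comp_ι f h]
    infer_instance
  · rintro ⟨U, hx, himm⟩
    have hle : U ≤ f ⁻¹ᵁ (U.ι ≫ f).coborderRange := fun y hy =>
      subset_coborder ⟨⟨y, hy⟩, rfl⟩
    refine ⟨U, _, hle, hx, ?_⟩
    have : f.resLE (U.ι ≫ f).coborderRange U hle = (U.ι ≫ f).liftCoborder := by
      rw [← cancel_mono (U.ι ≫ f).coborderRange.ι]; simp
    rw [this]; infer_instance

lemma isLocalImmersion_comp (f : X ⟶ Y) (g : Y ⟶ Z) (hf : SchLoc.IsLocalImmersion f)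
    (hg : SchLoc.IsLocalImmersion g) : SchLoc.IsLocalImmersion (f ≫ g) := by
  intro x
  obtain ⟨U, hx, hU⟩ := (isLocalImmersionAt_iff f x).mp (hf x)
  obtain ⟨U', hx', hU'⟩ := (isLocalImmersionAt_iff g (f x)).mp (hg (f x))
  rw [isLocalImmersionAt_iff]
  refine ⟨U ⊓ f ⁻¹ᵁ U', ⟨hx, hx'⟩, ?_⟩
  let a := f.resLE U' (U ⊓ f ⁻¹ᵁ U') inf_le_right
  have : IsImmersion (a ≫ U'.ι) := by
    rw [Scheme.Hom.resLE_comp_ι, ← X.homOfLE_ι (inf_le_left : U ⊓ f ⁻¹ᵁ U' ≤ U), Category.assoc]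
    infer_instance
  have : IsImmersion a := IsImmersion.of_comp a U'.ι
  have h : (U ⊓ f ⁻¹ᵁ U').ι ≫ f ≫ g = a ≫ U'.ι ≫ g := by
    simp [a, Scheme.Hom.resLE_comp_ι_assoc]
  rw [h]; infer_instance

lemma isLocalImmersion_of_comp (f : X ⟶ Y) (g : Y ⟶ Z) (h : SchLoc.IsLocalImmersion (f ≫ g)) :
    SchLoc.IsLocalImmersion f := by
  intro x
  obtain ⟨U, hx, hU⟩ := (isLocalImmersionAt_iff _ x).mp (h x)
  rw [← Category.assoc] at hU
  exact (isLocalImmersionAt_iff f x).mpr ⟨U, hx, IsImmersion.of_comp (U.ι ≫ f) g⟩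

lemma isLocalImmersion_baseChange {X S S' : Scheme.{u}} (f : X ⟶ S) (g : S' ⟶ S)
    (hf : SchLoc.IsLocalImmersion f) : SchLoc.IsLocalImmersion (pullback.snd f g) := by
  intro z
  obtain ⟨U, hx, hU⟩ := (isLocalImmersionAt_iff f _).mp (hf (pullback.fst f g z))
  refine (isLocalImmersionAt_iff _ z).mpr ⟨pullback.fst f g ⁻¹ᵁ U, hx, ?_⟩
  have hP := (isPullback_morphismRestrict (pullback.fst f g) U).paste_vert
    (IsPullback.of_hasPullback f g)
  exact MorphismProperty.of_isPullback (P := @IsImmersion) hP hU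

/-- A closed immersion from an open `U` into an open `V`, for an irreducible source and a separated
map, fills the whole preimage of `V`. -/
lemma isClosedImmersion_morphismRestrict [IrreducibleSpace X] (f : X ⟶ Y) [IsSeparated f]
    {U : X.Opens} {V : Y.Opens} (h : U ≤ f ⁻¹ᵁ V) (hne : (U : Set X).Nonempty)
    [IsClosedImmersion (f.resLE V U h)] :
    U = f ⁻¹ᵁ V ∧ IsClosedImmersion (f ∣_ V) := by
  have e : X.homOfLE h ≫ f.resLE V (f ⁻¹ᵁ V) le_rfl = f.resLE V U h := Scheme.Hom.map_resLE _ _ _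
  rw [Scheme.Hom.resLE_eq_morphismRestrict] at e
  have : IsClosedImmersion (X.homOfLE h ≫ f ∣_ V) := e ▸ ‹_›
  have : IsSeparated (f ∣_ V) := IsZariskiLocalAtTarget.restrict ‹_› V
  have : IsClosedImmersion (X.homOfLE h) := IsClosedImmersion.of_comp _ (f ∣_ V)
  have hpre : PreirreducibleSpace (f ⁻¹ᵁ V).toScheme :=
    Subtype.preirreducibleSpace ((PreirreducibleSpace.isPreirreducible_univ (X := X)).open_subset
      (f ⁻¹ᵁ V).2 (Set.subset_univ _))
  have hclopen : IsClopen (Set.range (X.homOfLE h)) :=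
    ⟨(X.homOfLE h).isClosedEmbedding.isClosed_range, (X.homOfLE h).isOpenEmbedding.isOpen_range⟩
  have hcon : PreconnectedSpace (f ⁻¹ᵁ V).toScheme := PreirreducibleSpace.preconnectedSpace _
  have huniv : Set.range (X.homOfLE h) = Set.univ := by
    refine ((isClopen_iff.mp hclopen).resolve_left ?_)
    obtain ⟨x, hx⟩ := hne
    exact Set.nonempty_iff_ne_empty.mp ⟨_, ⟨x, hx⟩, rfl⟩
  have hUV : U = f ⁻¹ᵁ V := by
    refine le_antisymm h fun x hx => ?_
    obtain ⟨⟨y, hy⟩, hyx⟩ := huniv.ge (Set.mem_univ (⟨x, hx⟩ : f ⁻¹ᵁ V))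
    have h2 : (X.homOfLE h ⟨y, hy⟩).1 = y := Scheme.homOfLE_apply _ _
    rw [hyx] at h2
    exact (show x = y from h2) ▸ hy
  refine ⟨hUV, ?_⟩
  subst hUV
  rwa [← Scheme.Hom.resLE_eq_morphismRestrict]

lemma isImmersion_of_restrict (f : X ⟶ Y)
    (h : ∀ x : X, ∃ V : Y.Opens, f x ∈ V ∧ IsClosedImmersion (f ∣_ V)) : IsImmersion f := by
  choose V hV hc using h
  let W : Y.Opens := ⨆ x, V x
  have hW : f ⁻¹ᵁ W = ⊤ :=
    eq_top_iff.mpr fun x _ => TopologicalSpace.Opens.mem_iSup.mpr ⟨x, hV x⟩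
  have : IsClosedImmersion (f ∣_ W) := by
    refine IsZariskiLocalAtTarget.of_iSup_eq_top (fun x => W.ι ⁻¹ᵁ V x)
      (eq_top_iff.mpr fun y _ => ?_) fun x => ?_
    · obtain ⟨x, hx⟩ := TopologicalSpace.Opens.mem_iSup.mp y.2
      exact TopologicalSpace.Opens.mem_iSup.mpr ⟨x, hx⟩
    · rw [(MorphismProperty.arrow_mk_iso_iff @IsClosedImmersion
        (morphismRestrictRestrict f W (W.ι ⁻¹ᵁ V x)))]
      have : W.ι ''ᵁ W.ι ⁻¹ᵁ V x = V x := by
        rw [Scheme.Hom.image_preimage_eq_opensRange_inf, Scheme.Opens.opensRange_ι]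
        exact inf_eq_right.mpr (le_iSup V x)
      rw [this]
      exact hc x
  have h2 : IsImmersion ((f ∣_ W) ≫ W.ι) := inferInstance
  rw [morphismRestrict_ι, hW, ← Scheme.topIso_hom] at h2
  have h3 : f = X.topIso.inv ≫ X.topIso.hom ≫ f := by simp
  rw [h3]; infer_instance

lemma isImmersion_of_isLocalImmersion_of_isSeparated [IrreducibleSpace X] (f : X ⟶ Y)
    (hf : SchLoc.IsLocalImmersion f) [IsSeparated f] : IsImmersion f := by
  refine isImmersion_of_restrict f fun x => ?_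
  obtain ⟨U, V, h, hx, hc⟩ := hf x
  exact ⟨V, h hx, (isClosedImmersion_morphismRestrict f h ⟨x, hx⟩).2⟩

lemma isLocalImmersion_of_isLocalIso (f : X ⟶ Y) (hf : SchLoc.IsLocalIso f) :
    SchLoc.IsLocalImmersion f := fun x => by
  obtain ⟨U, hx, hU⟩ := hf x
  exact (isLocalImmersionAt_iff f x).mpr ⟨U, hx, inferInstance⟩

lemma isOpenImmersion_of_isLocalIso_of_isSeparated [IrreducibleSpace X] (f : X ⟶ Y)
    (hf : SchLoc.IsLocalIso f) [IsSeparated f] : IsOpenImmersion f := by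
  have himm := isImmersion_of_isLocalImmersion_of_isSeparated f (isLocalImmersion_of_isLocalIso f hf)
  refine IsOpenImmersion.iff_isIso_stalkMap.mpr ⟨.of_continuous_injective_isOpenMap f.continuous
    f.isEmbedding.injective fun s hs => ?_, fun x => ?_⟩
  · refine isOpen_iff_forall_mem_open.mpr ?_
    rintro _ ⟨x, hx, rfl⟩
    obtain ⟨U, hxU, hU⟩ := hf x
    refine ⟨(U.ι ≫ f) '' (U.ι ⁻¹' s), ?_, (U.ι ≫ f).isOpenEmbedding.isOpenMap _
      (hs.preimage U.ι.continuous), ⟨⟨x, hxU⟩, hx, rfl⟩⟩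
    rintro _ ⟨y, hy, rfl⟩
    exact ⟨U.ι y, hy, rfl⟩
  · obtain ⟨U, hxU, hU⟩ := hf x
    let x' : U.toScheme := ⟨x, hxU⟩
    have h1 : IsIso ((U.ι ≫ f).stalkMap x') := inferInstance
    have h2 : IsIso (f.stalkMap (U.ι x') ≫ U.ι.stalkMap x') := by
      rw [← Scheme.Hom.stalkMap_comp]; exact h1
    exact @IsIso.of_isIso_comp_right _ _ _ _ _ (f.stalkMap (U.ι x')) (U.ι.stalkMap x') inferInstance h2

lemma isImmersion_of_isDominant_of_injective [IrreducibleSpace X] (f : X ⟶ Y) [IsDominant f]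
    (hf : SchLoc.IsLocalImmersion f) (hi : Function.Injective f.base) :
    IsImmersion f ∧ IsOpen (Set.range f.base) := by
  have key : ∀ x, ∃ V : Y.Opens, f x ∈ V ∧ IsClosedImmersion (f ∣_ V) ∧ (V : Set Y) ⊆ Set.range f := by
    intro x
    obtain ⟨U, V, h, hx, hc⟩ := hf x
    have hV : ∀ z : V, z ∈ Set.range (f.resLE V U h) := by
      intro z
      have hcl := (f.resLE V U h).isClosedEmbedding.isClosed_range
      rw [← hcl.closure_eq, V.ι.isEmbedding.closure_eq_preimage_closure_image]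
      have h1 : Dense (f '' (U : Set X)) :=
        Dense.mono subset_rfl (f.denseRange.dense_image f.continuous (U.2.dense ⟨x, hx⟩))
      refine Set.mem_preimage.mpr (closure_mono ?_ (h1 (V.ι z)))
      rintro _ ⟨y, hy, rfl⟩
      refine ⟨_, ⟨⟨y, hy⟩, rfl⟩, ?_⟩
      exact congr($(Scheme.Hom.resLE_comp_ι f h) ⟨y, hy⟩)
    have hval : ∀ y, (f.resLE V U h y).1 = f y.1 := fun y => Scheme.Hom.coe_resLE_apply ..
    have hUV : U = f ⁻¹ᵁ V := by
      refine le_antisymm h fun y hy => ?_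
      obtain ⟨y', hy'⟩ := hV ⟨f y, hy⟩
      have := hi (((hval y').symm.trans (congrArg Subtype.val hy')))
      exact this ▸ y'.2
    refine ⟨V, h hx, ?_, fun z hz => ?_⟩
    · subst hUV; rwa [← Scheme.Hom.resLE_eq_morphismRestrict]
    · obtain ⟨y', hy'⟩ := hV ⟨z, hz⟩
      exact ⟨y'.1, (hval y').symm.trans (congrArg Subtype.val hy')⟩
  refine ⟨isImmersion_of_restrict f fun x => ?_, isOpen_iff_forall_mem_open.mpr ?_⟩
  · obtain ⟨V, h1, h2, -⟩ := key x
    exact ⟨V, h1, h2⟩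
  · rintro _ ⟨x, rfl⟩
    obtain ⟨V, h1, -, h3⟩ := key x
    exact ⟨V, h3, V.2, h1⟩

lemma ker_stalkMap_le_of_comp_openImmersion {W : Scheme.{u}} (ι : W ⟶ X) [IsOpenImmersion ι]
    (f' : Z ⟶ W) (lc : Y ⟶ W) (z : Z) (y : Y) (h : f' z = lc y)
    (hk : ∀ e : (f' ≫ ι) z = (lc ≫ ι) y, RingHom.ker ((lc ≫ ι).stalkMap y).hom ≤
      RingHom.ker (X.presheaf.stalkSpecializes (specializes_of_eq e) ≫ (f' ≫ ι).stalkMap z).hom) :
    RingHom.ker (lc.stalkMap y).hom ≤
      RingHom.ker (W.presheaf.stalkSpecializes (specializes_of_eq h) ≫ f'.stalkMap z).hom := by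
  intro b hb
  obtain ⟨a, rfl⟩ := (ConcreteCategory.bijective_of_isIso (ι.stalkMap (lc y))).2 b
  have e : (f' ≫ ι) z = (lc ≫ ι) y := congrArg ι h
  have := hk e (x := a) (RingHom.mem_ker.mpr (by rw [Scheme.Hom.stalkMap_comp]; exact hb))
  simp only [RingHom.mem_ker, CommRingCat.hom_comp, RingHom.comp_apply] at this ⊢
  rw [← Scheme.Hom.stalkSpecializes_stalkMap_apply ι]
  rw [Scheme.Hom.stalkMap_comp] at this
  exact this

lemma exists_factor_through_immersion_iff (f : Z ⟶ X) (j : Y ⟶ X) [IsImmersion j] :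
    (∃ g : Z ⟶ Y, g ≫ j = f) ↔
      Set.range f ⊆ Set.range j ∧
      ∀ (z : Z) (y : Y) (h : f z = j y),
        RingHom.ker (j.stalkMap y).hom ≤
          RingHom.ker (X.presheaf.stalkSpecializes (specializes_of_eq h) ≫ f.stalkMap z).hom := by
  constructor
  · rintro ⟨g, rfl⟩
    refine ⟨Set.range_comp_subset_range g j, fun z y h => ?_⟩
    obtain rfl : g z = y := j.isEmbedding.injective h
    intro s hs
    simp only [RingHom.mem_ker] at hs ⊢
    simp [Scheme.Hom.stalkMap_comp, hs]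
  · rintro ⟨hr, hk⟩
    suffices H : ∀ (W : Scheme.{u}) (ι : W ⟶ X) [IsOpenImmersion ι] (lc : Y ⟶ W)
        [IsClosedImmersion lc], lc ≫ ι = j → Set.range j ⊆ Set.range ι → ∃ g : Z ⟶ Y, g ≫ j = f from
      H _ j.coborderRange.ι j.liftCoborder j.liftCoborder_ι (by simpa using! subset_coborder)
    intro W ι _ lc _ hj hjr
    obtain ⟨f', rfl⟩ : ∃ f' : Z ⟶ W, f' ≫ ι = f :=
      ⟨IsOpenImmersion.lift ι f (hr.trans hjr), IsOpenImmersion.lift_fac _ _ _⟩
    subst hj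
    suffices hle : lc.ker ≤ f'.ker by
      exact ⟨IsClosedImmersion.lift lc f' hle, IsClosedImmersion.lift_fac_assoc _ _ _ _⟩
    refine Scheme.IdealSheafData.le_ofIdeals_iff.mpr fun O s hs => ?_
    have hs0 : lc.app O s = 0 := by simpa using hs
    rw [RingHom.mem_ker]
    refine TopCat.Presheaf.section_ext Z.sheaf _ _ _ fun z hz => Eq.trans ?_ (map_zero _).symm
    show Z.presheaf.germ (f' ⁻¹ᵁ O.1) z hz (f'.app O.1 s) = 0
    obtain ⟨y, hy⟩ := hr ⟨z, rfl⟩
    have h : f' z = lc y := ι.isOpenEmbedding.injective hy.symm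
    have hyO : lc y ∈ O.1 := h ▸ hz
    have := ker_stalkMap_le_of_comp_openImmersion ι f' lc z y h (fun e => hk z y e)
      (x := W.presheaf.germ O _ hyO s) (by simp [Scheme.Hom.germ_stalkMap_apply, hs0])
    rw [← Scheme.Hom.germ_stalkMap_apply f' O z hz s]
    rw [RingHom.mem_ker, CommRingCat.hom_comp, RingHom.comp_apply] at this
    refine Eq.trans ?_ this
    congr 1
    exact (congr($(W.presheaf.germ_stalkSpecializes hyO (specializes_of_eq h)) s)).symm

end Groth.Agent.SchLoc58
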