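import Groth.Agent.SchLoc58.StalkAlg
import Groth.Agent.SchLoc58.LocalImm
import Mathlib.AlgebraicGeometry.Noetherian

set_option autoImplicit false
universe u

open CategoryTheory AlgebraicGeometry

namespace Groth.Agent.SchLoc58

variable {X Y : Scheme.{u}}

lemma stalkMap_surjective_of_isLocalImmersionAt (f : X ⟶ Y) (x : X)
    (h : SchLoc.IsLocalImmersionAt f x) : Function.Surjective (f.stalkMap x) := by
  obtain ⟨U, hx, himm⟩ := (isLocalImmersionAt_iff f x).mp h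
  let x' : U.toScheme := ⟨x, hx⟩
  have h1 := (U.ι ≫ f).stalkMap_surjective x'
  rw [Scheme.Hom.stalkMap_comp] at h1
  intro b
  obtain ⟨c, hc⟩ := h1 (U.ι.stalkMap x' b)
  exact ⟨c, (ConcreteCategory.bijective_of_isIso (U.ι.stalkMap x')).1 hc⟩

lemma isIso_stalkMap_of_isLocalIsoAt (f : X ⟶ Y) (x : X) (h : SchLoc.IsLocalIsoAt f x) :
    IsIso (f.stalkMap x) := by
  obtain ⟨U, hx, hU⟩ := h
  let x' : U.toScheme := ⟨x, hx⟩
  have h1 : IsIso ((U.ι ≫ f).stalkMap x') := inferInstance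
  have h2 : IsIso (f.stalkMap (U.ι x') ≫ U.ι.stalkMap x') := by
    rw [← Scheme.Hom.stalkMap_comp]; exact h1
  exact @IsIso.of_isIso_comp_right _ _ _ _ _ (f.stalkMap (U.ι x')) (U.ι.stalkMap x') inferInstance h2

section

variable (f : X ⟶ Y) {V : Y.Opens} (hV : IsAffineOpen V) {U : X.Opens} (hU : IsAffineOpen U)
  (e : U ≤ f ⁻¹ᵁ V) {x : X} (hx : x ∈ U)

include hV hU e hx in
lemma fraction_of_stalkMap_surjective (hs : Function.Surjective (f.stalkMap x)) (b : Γ(X, U)) :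
    ∃ (a s : Γ(Y, V)) (h : Γ(X, U)), f.appLE V U e s ∉ (hU.primeIdealOf ⟨x, hx⟩).asIdeal ∧
      h ∉ (hU.primeIdealOf ⟨x, hx⟩).asIdeal ∧ h * (f.appLE V U e s * b - f.appLE V U e a) = 0 := by
  let := TopCat.Presheaf.algebra_section_stalk Y.presheaf ⟨f x, e hx⟩
  have := hV.isLocalization_stalk ⟨f x, e hx⟩
  let := TopCat.Presheaf.algebra_section_stalk X.presheaf ⟨x, hx⟩
  have := hU.isLocalization_stalk ⟨x, hx⟩
  obtain ⟨c, hc⟩ := hs (X.presheaf.germ U x hx b)
  obtain ⟨⟨a, s⟩, hcs⟩ := IsLocalization.surj (hV.primeIdealOf ⟨f x, e hx⟩).asIdeal.primeCompl c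
  have hg : ∀ z : Γ(Y, V), X.presheaf.germ U x hx (f.appLE V U e z) =
      f.stalkMap x (Y.presheaf.germ V (f x) (e hx) z) := fun z => by
    refine Eq.trans ?_ (Scheme.Hom.germ_stalkMap_apply f V x (e hx) z).symm
    exact TopCat.Presheaf.germ_res_apply X.presheaf (homOfLE e) x hx _
  have hzero : X.presheaf.germ U x hx (f.appLE V U e s.1 * b - f.appLE V U e a) = 0 := by
    rw [map_sub, map_mul, hg, hg, sub_eq_zero]
    rw [← hc, ← map_mul, mul_comm]
    exact congrArg _ hcs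
  obtain ⟨m, hm⟩ := (IsLocalization.map_eq_zero_iff
    (hU.primeIdealOf ⟨x, hx⟩).asIdeal.primeCompl (X.presheaf.stalk x) _).mp hzero
  refine ⟨a, s.1, m.1, fun hmem => s.2 ?_, m.2, hm⟩
  exact (congrArg PrimeSpectrum.asIdeal
    (IsAffineOpen.comap_primeIdealOf_appLE (f := f) V hV U hU e hx)).le hmem

include hV hU e hx in
lemma kill_of_stalkMap_injective (hs : Function.Injective (f.stalkMap x)) (a : Γ(Y, V))
    (h : Γ(X, U)) (hh : h ∉ (hU.primeIdealOf ⟨x, hx⟩).asIdeal) (e0 : h * f.appLE V U e a = 0) :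
    ∃ s : Γ(Y, V), f.appLE V U e s ∉ (hU.primeIdealOf ⟨x, hx⟩).asIdeal ∧ s * a = 0 := by
  let := TopCat.Presheaf.algebra_section_stalk Y.presheaf ⟨f x, e hx⟩
  have := hV.isLocalization_stalk ⟨f x, e hx⟩
  let := TopCat.Presheaf.algebra_section_stalk X.presheaf ⟨x, hx⟩
  have := hU.isLocalization_stalk ⟨x, hx⟩
  have h1 : X.presheaf.germ U x hx (f.appLE V U e a) = 0 :=
    (IsLocalization.map_eq_zero_iff
      (hU.primeIdealOf ⟨x, hx⟩).asIdeal.primeCompl (X.presheaf.stalk x) _).mpr ⟨⟨h, hh⟩, e0⟩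
  have h2 : Y.presheaf.germ V (f x) (e hx) a = 0 := by
    apply hs
    rw [map_zero, ← h1]
    refine (Scheme.Hom.germ_stalkMap_apply f V x (e hx) a).trans ?_
    exact (TopCat.Presheaf.germ_res_apply X.presheaf (homOfLE e) x hx _).symm
  obtain ⟨m, hm⟩ := (IsLocalization.map_eq_zero_iff
    (hV.primeIdealOf ⟨f x, e hx⟩).asIdeal.primeCompl (Y.presheaf.stalk (f x)) _).mp h2
  refine ⟨m.1, fun hmem => m.2 ?_, hm⟩
  exact (congrArg PrimeSpectrum.asIdeal
    (IsAffineOpen.comap_primeIdealOf_appLE (f := f) V hV U hU e hx)).le hmem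

end

lemma basicOpen_le_preimage (f : X ⟶ Y) {V : Y.Opens} {U : X.Opens} (e : U ≤ f ⁻¹ᵁ V)
    (g : Γ(Y, V)) (h : Γ(X, U)) :
    X.basicOpen (f.appLE V U e g * h) ≤ f ⁻¹ᵁ Y.basicOpen g := by
  rw [Scheme.basicOpen_mul, Scheme.basicOpen_appLE]
  exact inf_le_left.trans inf_le_right

lemma mem_basicOpen_of_notMem {U : X.Opens} (hU : IsAffineOpen U) {x : X} (hx : x ∈ U)
    (s : Γ(X, U)) (hs : s ∉ (hU.primeIdealOf ⟨x, hx⟩).asIdeal) : x ∈ X.basicOpen s := by
  let := TopCat.Presheaf.algebra_section_stalk X.presheaf ⟨x, hx⟩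
  have := hU.isLocalization_stalk ⟨x, hx⟩
  rw [Scheme.mem_basicOpen X s x hx]
  exact (IsLocalization.AtPrime.isUnit_to_map_iff (X.presheaf.stalk x) _ s).mpr hs

theorem isLocalImmersionAt_iff_stalkMap_surjective (f : X ⟶ Y) [LocallyOfFiniteType f] (x : X) :
    SchLoc.IsLocalImmersionAt f x ↔ Function.Surjective (f.stalkMap x) := by
  refine ⟨stalkMap_surjective_of_isLocalImmersionAt f x, fun hs => ?_⟩
  obtain ⟨_, ⟨V, hV, rfl⟩, hxV, -⟩ :=
    Y.isBasis_affineOpens.exists_subset_of_mem_open (Set.mem_univ (f x)) isOpen_univ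
  obtain ⟨_, ⟨U, hU, rfl⟩, hxU, e⟩ :=
    X.isBasis_affineOpens.exists_subset_of_mem_open hxV (f ⁻¹ᵁ V).2
  replace e : U ≤ f ⁻¹ᵁ V := e
  let := (f.appLE V U e).hom.toAlgebra
  have : Algebra.FiniteType Γ(Y, V) Γ(X, U) := f.finiteType_appLE hV hU e
  obtain ⟨g, h, hg, hh, hsurj⟩ := exists_surjective_away (hU.primeIdealOf ⟨x, hxU⟩).asIdeal
    (fraction_of_stalkMap_surjective f hV hU e hxU hs)
  have hle := basicOpen_le_preimage f e g h
  refine ⟨_, _, hle, mem_basicOpen_of_notMem hU hxU _ (fun hmem =>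
    (Ideal.IsPrime.mem_or_mem inferInstance hmem).elim hg hh), ?_⟩
  have : IsAffine (X.basicOpen (f.appLE V U e g * h)) := hU.basicOpen _
  have : IsAffine (Y.basicOpen g) := hV.basicOpen _
  refine IsClosedImmersion.of_surjective_of_isAffine _ ?_
  rw [Scheme.Hom.appTop, Scheme.Hom.resLE_app_top]
  have hψ : Function.Surjective (f.appLE (Y.basicOpen g) _ hle) := by
    have : IsLocalization.Away (g * 1) Γ(Y, Y.basicOpen g) := by
      rw [mul_one]; exact hV.isLocalization_basicOpen g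
    have : IsLocalization.Away (algebraMap Γ(Y, V) Γ(X, U) (g * 1) * h)
        Γ(X, X.basicOpen (f.appLE V U e g * h)) := by
      rw [mul_one]; exact hU.isLocalization_basicOpen _
    refine hsurj 1 _ _ (f.appLE (Y.basicOpen g) _ hle).hom fun a => ?_
    show (Y.presheaf.map _ ≫ f.appLE _ _ hle) a = (f.appLE V U e ≫ X.presheaf.map _) a
    rw [Scheme.Hom.map_appLE, Scheme.Hom.appLE_map]
  simp only [CommRingCat.hom_comp, RingHom.coe_comp]
  exact ((ConcreteCategory.bijective_of_isIso _).2.comp hψ).comp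
    (ConcreteCategory.bijective_of_isIso _).2

theorem isLocalIsoAt_iff_isIso_stalkMap (f : X ⟶ Y) [IsLocallyNoetherian Y]
    [LocallyOfFiniteType f] (x : X) : SchLoc.IsLocalIsoAt f x ↔ IsIso (f.stalkMap x) := by
  refine ⟨isIso_stalkMap_of_isLocalIsoAt f x, fun hs => ?_⟩
  have hbij := ConcreteCategory.bijective_of_isIso (f.stalkMap x)
  obtain ⟨_, ⟨V, hV, rfl⟩, hxV, -⟩ :=
    Y.isBasis_affineOpens.exists_subset_of_mem_open (Set.mem_univ (f x)) isOpen_univ
  obtain ⟨_, ⟨U, hU, rfl⟩, hxU, e⟩ :=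
    X.isBasis_affineOpens.exists_subset_of_mem_open hxV (f ⁻¹ᵁ V).2
  replace e : U ≤ f ⁻¹ᵁ V := e
  let := (f.appLE V U e).hom.toAlgebra
  have : Algebra.FiniteType Γ(Y, V) Γ(X, U) := f.finiteType_appLE hV hU e
  have : IsNoetherianRing Γ(Y, V) := IsLocallyNoetherian.component_noetherian ⟨V, hV⟩
  obtain ⟨g, h, hg, hh, hb⟩ := exists_bijective_away (hU.primeIdealOf ⟨x, hxU⟩).asIdeal
    (fraction_of_stalkMap_surjective f hV hU e hxU hbij.2)
    (kill_of_stalkMap_injective f hV hU e hxU hbij.1)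
  have hle := basicOpen_le_preimage f e g h
  let U' := X.basicOpen (f.appLE V U e g * h)
  refine ⟨U', mem_basicOpen_of_notMem hU hxU _ (fun hmem =>
    (Ideal.IsPrime.mem_or_mem inferInstance hmem).elim hg hh), ?_⟩
  have : IsAffine U' := hU.basicOpen _
  have : IsAffine (Y.basicOpen g) := hV.basicOpen _
  have hψ : Function.Bijective (f.appLE (Y.basicOpen g) U' hle) := by
    have : IsLocalization.Away g Γ(Y, Y.basicOpen g) := hV.isLocalization_basicOpen g
    have : IsLocalization.Away (algebraMap Γ(Y, V) Γ(X, U) g * h) Γ(X, U') :=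
      hU.isLocalization_basicOpen _
    refine hb _ _ (f.appLE (Y.basicOpen g) U' hle).hom fun a => ?_
    show (Y.presheaf.map _ ≫ f.appLE _ _ hle) a = (f.appLE V U e ≫ X.presheaf.map _) a
    rw [Scheme.Hom.map_appLE, Scheme.Hom.appLE_map]
  have : IsIso (f.appLE (Y.basicOpen g) U' hle) := (ConcreteCategory.isIso_iff_bijective _).mpr hψ
  have : IsIso (f.resLE (Y.basicOpen g) U' hle).appTop := by
    rw [Scheme.Hom.appTop, Scheme.Hom.resLE_app_top]; infer_instance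
  have : IsIso (f.resLE (Y.basicOpen g) U' hle) :=
    ((MorphismProperty.isomorphisms Scheme).arrow_mk_iso_iff
      (arrowIsoSpecΓOfIsAffine _)).mpr (inferInstanceAs (IsIso (Spec.map _)))
  rw [← Scheme.Hom.resLE_comp_ι f hle]
  infer_instance

end Groth.Agent.SchLoc58
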