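import Mathlib.RingTheory.FiniteType
import Mathlib.RingTheory.Localization.Away.Basic
import Mathlib.RingTheory.Localization.AtPrime.Basic
import Mathlib.RingTheory.Noetherian.Basic
import Mathlib.Tactic.LinearCombination

/-!
From surjectivity (bijectivity) on localizations at a prime to surjectivity (bijectivity) on a
standard open, for algebras of finite type.
-/

set_option autoImplicit false
universe u v

namespace Groth.Agent.SchLoc58

variable {A : Type u} {B : Type v} [CommRing A] [CommRing B] [Algebra A B]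

/-- The elements which become fractions `a / s ^ n` after killing by `h` form a subalgebra. -/
def fractionSubalgebra (s : A) (h : B) : Subalgebra A B where
  carrier := {b | ∃ (n : ℕ) (a : A), h * (algebraMap A B s ^ n * b - algebraMap A B a) = 0}
  mul_mem' := by
    rintro b b' ⟨n, a, e⟩ ⟨m, a', e'⟩
    refine ⟨n + m, a * a', ?_⟩
    rw [map_mul]
    linear_combination (algebraMap A B s ^ m * b') * e + algebraMap A B a * e'
  add_mem' := by
    rintro b b' ⟨n, a, e⟩ ⟨m, a', e'⟩
    refine ⟨n + m, a * s ^ m + a' * s ^ n, ?_⟩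
    simp only [map_mul, map_pow, map_add]
    linear_combination algebraMap A B s ^ m * e + algebraMap A B s ^ n * e'
  algebraMap_mem' r := ⟨0, r, by simp⟩

/-- If every element of `B` is a fraction near the prime `q`, there are `g` and `h` with this
property uniformly; moreover `h` becomes invertible from `A` alone. -/
lemma exists_uniform [Algebra.FiniteType A B] (q : Ideal B) [q.IsPrime]
    (H : ∀ b : B, ∃ (a s : A) (h : B), algebraMap A B s ∉ q ∧ h ∉ q ∧
      h * (algebraMap A B s * b - algebraMap A B a) = 0) :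
    ∃ (g : A) (h : B), algebraMap A B g ∉ q ∧ h ∉ q ∧
      (∀ b : B, ∃ (n : ℕ) (a : A), h * (algebraMap A B g ^ n * b - algebraMap A B a) = 0) ∧
      ∃ c : A, h * (h * algebraMap A B c - algebraMap A B g) = 0 := by
  classical
  obtain ⟨T, hT⟩ := Algebra.FiniteType.out (R := A) (A := B)
  choose a s k hs hk e using H
  let s0 := ∏ b ∈ T, s b
  let h0 := ∏ b ∈ T, k b
  have hs0 : algebraMap A B s0 ∉ q := by
    rw [map_prod]
    exact fun hh => by
      obtain ⟨b, -, hb⟩ := (Ideal.IsPrime.prod_mem_iff.mp hh)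
      exact hs b hb
  have hh0 : h0 ∉ q := fun hh => by
    obtain ⟨b, -, hb⟩ := (Ideal.IsPrime.prod_mem_iff.mp hh)
    exact hk b hb
  have hall : ∀ b : B, b ∈ fractionSubalgebra s0 h0 := by
    intro b
    have hmem : b ∈ (⊤ : Subalgebra A B) := Algebra.mem_top
    rw [← hT] at hmem
    refine Algebra.adjoin_le (fun c hc => ?_) hmem
    refine ⟨1, (∏ b ∈ T.erase c, s b) * a c, ?_⟩
    have e1 : s0 = (∏ b ∈ T.erase c, s b) * s c := (Finset.prod_erase_mul T s hc).symm
    have e2 : h0 = (∏ b ∈ T.erase c, k b) * k c := (Finset.prod_erase_mul T k hc).symm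
    rw [e1, e2, map_mul, map_mul, pow_one]
    linear_combination ((∏ b ∈ T.erase c, k b) * algebraMap A B (∏ b ∈ T.erase c, s b)) * e c
  obtain ⟨N, a1, e1⟩ := hall h0
  have ha1 : algebraMap A B a1 ∉ q := by
    intro hmem
    have : h0 * (algebraMap A B s0 ^ N * h0) ∈ q := by
      have h2 : h0 * (algebraMap A B s0 ^ N * h0) = h0 * algebraMap A B a1 := by
        linear_combination e1
      rw [h2]; exact q.mul_mem_left _ hmem
    rcases Ideal.IsPrime.mem_or_mem inferInstance this with h2 | h2
    · exact hh0 h2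
    rcases Ideal.IsPrime.mem_or_mem inferInstance h2 with h3 | h3
    · exact hs0 (Ideal.IsPrime.mem_of_pow_mem inferInstance N h3)
    · exact hh0 h3
  refine ⟨s0 * a1, h0, ?_, hh0, fun b => ?_, ?_⟩
  · rw [map_mul]
    exact fun hh => (Ideal.IsPrime.mem_or_mem inferInstance hh).elim hs0 ha1
  · obtain ⟨n, x, hx⟩ := hall b
    refine ⟨n, a1 ^ n * x, ?_⟩
    simp only [map_mul, map_pow, mul_pow]
    linear_combination (algebraMap A B a1 ^ n) * hx
  · refine ⟨s0 ^ (N + 1), ?_⟩
    simp only [map_mul, map_pow]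
    linear_combination (algebraMap A B s0) * e1

/-- Stalkwise surjectivity spreads out to a standard open. -/
lemma exists_surjective_away [Algebra.FiniteType A B] (q : Ideal B) [q.IsPrime]
    (H : ∀ b : B, ∃ (a s : A) (h : B), algebraMap A B s ∉ q ∧ h ∉ q ∧
      h * (algebraMap A B s * b - algebraMap A B a) = 0) :
    ∃ (g : A) (h : B), algebraMap A B g ∉ q ∧ h ∉ q ∧
      ∀ (t : A) (A' : Type u) (B' : Type v) [CommRing A'] [CommRing B'] [Algebra A A']
        [Algebra B B'] [IsLocalization.Away (g * t) A']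
        [IsLocalization.Away (algebraMap A B (g * t) * h) B'] (ψ : A' →+* B'),
        (∀ x : A, ψ (algebraMap A A' x) = algebraMap B B' (algebraMap A B x)) →
          Function.Surjective ψ := by
  obtain ⟨g, h, hg, hh, hfrac, c, hc⟩ := exists_uniform q H
  refine ⟨g, h, hg, hh, fun t A' B' _ _ _ _ _ _ ψ hψ => ?_⟩
  let φ := algebraMap A B
  let β := algebraMap B B'
  have hu : IsUnit (β (φ (g * t) * h)) := IsLocalization.Away.algebraMap_isUnit _
  rw [map_mul, IsUnit.mul_iff] at hu
  have hA : IsUnit (algebraMap A A' (g * t)) := IsLocalization.Away.algebraMap_isUnit _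
  have hgA : IsUnit (algebraMap A A' g) := by rw [map_mul, IsUnit.mul_iff] at hA; exact hA.1
  have cancel : ∀ x : B, h * x = 0 → β x = 0 := fun x hx => by
    refine hu.2.mul_right_eq_zero.mp ?_
    rw [← map_mul, hx, map_zero]
  have mem_inv : ∀ (u : A'), IsUnit u → ∀ y : B', ψ u * y ∈ ψ.range → y ∈ ψ.range := by
    rintro u ⟨u, rfl⟩ y ⟨z, hz⟩
    refine ⟨↑u⁻¹ * z, ?_⟩
    rw [map_mul, hz, ← mul_assoc, ← map_mul, Units.inv_mul, map_one, one_mul]
  have hB : ∀ b : B, β b ∈ ψ.range := by
    intro b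
    obtain ⟨n, a, ha⟩ := hfrac b
    have h1 : β (φ g) ^ n * β b = β (φ a) := by
      have := cancel _ ha
      rwa [map_sub, sub_eq_zero, map_mul, map_pow] at this
    refine mem_inv _ (hgA.pow n) _ ⟨algebraMap A A' a, ?_⟩
    rw [hψ, map_pow, hψ, h1]
  have hw : ∃ w : B', β (φ (g * t) * h) * w = 1 ∧ w ∈ ψ.range := by
    obtain ⟨v, hv⟩ := hgA.exists_right_inv
    obtain ⟨v', hv'⟩ := hA.exists_right_inv
    refine ⟨ψ v' * (ψ v * β (φ c)), ?_, mul_mem ⟨v', rfl⟩ (mul_mem ⟨v, rfl⟩ (hB _))⟩
    have h1 : β h * β (φ c) = β (φ g) := by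
      have := cancel _ hc
      rwa [map_sub, sub_eq_zero, map_mul] at this
    have h2 : β (φ g) * ψ v = 1 := by rw [← hψ, ← map_mul, hv, map_one]
    have h3 : β (φ (g * t)) * ψ v' = 1 := by rw [← hψ, ← map_mul, hv', map_one]
    rw [map_mul β]
    linear_combination (ψ v * β h * β (φ c)) * h3 + ψ v * h1 + h2
  obtain ⟨w, hw1, hw2⟩ := hw
  intro x
  obtain ⟨⟨b, _, k, rfl⟩, e⟩ := IsLocalization.surj (Submonoid.powers (φ (g * t) * h)) x
  have : x = β b * w ^ k := by
    rw [← e, mul_assoc, map_pow, ← mul_pow, hw1, one_pow, mul_one]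
  rw [this]
  exact mul_mem (hB _) (pow_mem hw2 _)

/-- Over a Noetherian base, stalkwise bijectivity spreads out to a standard open. -/
lemma exists_bijective_away [IsNoetherianRing A] [Algebra.FiniteType A B] (q : Ideal B) [q.IsPrime]
    (H : ∀ b : B, ∃ (a s : A) (h : B), algebraMap A B s ∉ q ∧ h ∉ q ∧
      h * (algebraMap A B s * b - algebraMap A B a) = 0)
    (Hinj : ∀ (a : A) (h : B), h ∉ q → h * algebraMap A B a = 0 →
      ∃ s : A, algebraMap A B s ∉ q ∧ s * a = 0) :
    ∃ (g : A) (h : B), algebraMap A B g ∉ q ∧ h ∉ q ∧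
      ∀ (A' : Type u) (B' : Type v) [CommRing A'] [CommRing B'] [Algebra A A']
        [Algebra B B'] [IsLocalization.Away g A'] [IsLocalization.Away (algebraMap A B g * h) B']
        (ψ : A' →+* B'),
        (∀ x : A, ψ (algebraMap A A' x) = algebraMap B B' (algebraMap A B x)) →
          Function.Bijective ψ := by
  classical
  obtain ⟨g, h, hg, hh, hsurj⟩ := exists_surjective_away q H
  have hK : ∀ k : A, (∃ n : ℕ, (algebraMap A B g * h) ^ n * algebraMap A B k = 0) →
      ∃ s : A, algebraMap A B s ∉ q ∧ s * k = 0 := fun k ⟨n, hn⟩ =>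
    Hinj k _ (fun hmem => (Ideal.IsPrime.mem_or_mem inferInstance
      (Ideal.IsPrime.mem_of_pow_mem inferInstance n hmem)).elim hg hh) hn
  let K : Ideal A :=
    { carrier := {k | ∃ n : ℕ, (algebraMap A B g * h) ^ n * algebraMap A B k = 0}
      add_mem' := by
        rintro x y ⟨n, hn⟩ ⟨m, hm⟩
        refine ⟨n + m, ?_⟩
        rw [map_add, pow_add]
        linear_combination (algebraMap A B g * h) ^ m * hn + (algebraMap A B g * h) ^ n * hm
      zero_mem' := ⟨0, by simp⟩
      smul_mem' := by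
        rintro r x ⟨n, hn⟩
        refine ⟨n, ?_⟩
        rw [smul_eq_mul, map_mul]
        linear_combination algebraMap A B r * hn }
  obtain ⟨T, hT⟩ := IsNoetherian.noetherian K
  have hTK : ∀ k ∈ T, ∃ s : A, algebraMap A B s ∉ q ∧ s * k = 0 := fun k hk => by
    have : k ∈ K := by rw [← hT]; exact Submodule.subset_span hk
    exact hK k this
  choose! s hs hsk using hTK
  let t := ∏ k ∈ T, s k
  have ht : algebraMap A B t ∉ q := by
    rw [map_prod]
    exact fun hh => by
      obtain ⟨b, hb', hb⟩ := (Ideal.IsPrime.prod_mem_iff.mp hh)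
      exact hs b hb' hb
  have htK : ∀ k ∈ K, t * k = 0 := by
    intro k hk
    rw [← hT] at hk
    induction hk using Submodule.span_induction with
    | mem x hx =>
      show (∏ k ∈ T, s k) * x = 0
      rw [← Finset.prod_erase_mul T s hx, mul_assoc, hsk x hx, mul_zero]
    | zero => simp
    | add x y _ _ hx hy => rw [mul_add, hx, hy, add_zero]
    | smul r x _ hx => rw [smul_eq_mul, mul_left_comm, hx, mul_zero]
  refine ⟨g * t, h, fun hmem => ?_, hh, fun A' B' _ _ _ _ _ _ ψ hψ => ⟨?_, hsurj t A' B' ψ hψ⟩⟩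
  · rw [map_mul] at hmem
    exact (Ideal.IsPrime.mem_or_mem inferInstance hmem).elim hg ht
  rw [injective_iff_map_eq_zero]
  intro x hx
  obtain ⟨⟨a, _, k, rfl⟩, e⟩ := IsLocalization.surj (Submonoid.powers (g * t)) x
  have ha : algebraMap B B' (algebraMap A B a) = 0 := by
    rw [← hψ, ← e, map_mul, hx, zero_mul]
  obtain ⟨⟨_, m, rfl⟩, hm⟩ := (IsLocalization.map_eq_zero_iff
    (Submonoid.powers (algebraMap A B (g * t) * h)) B' _).mp ha
  have hmK : t ^ m * a ∈ K := by
    refine ⟨m, ?_⟩
    simp only [map_mul, map_pow] at hm ⊢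
    linear_combination hm
  have h1 : (g * t) ^ (m + 1) * a = 0 := by
    linear_combination (g ^ (m + 1)) * htK _ hmK
  have hu : IsUnit (algebraMap A A' (g * t)) := IsLocalization.Away.algebraMap_isUnit _
  have h2 : algebraMap A A' a = 0 := by
    have := congrArg (algebraMap A A') h1
    rw [map_zero, map_mul, map_pow] at this
    exact (hu.pow _).mul_right_eq_zero.mp this
  rw [h2, map_pow] at e
  exact (hu.pow k).mul_left_eq_zero.mp e

end Groth.Agent.SchLoc58
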